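import Groth.Agent.GRingCpl.MoriGlobal
import Mathlib

/-!
# Fractions without poles on the punctured spectrum are integral
-/

set_option autoImplicit false
set_option linter.style.haveILetI false

universe u

namespace Groth.Agent.PunctInt

open IsLocalRing
open scoped nonZeroDivisors

/-- Over a local domain: an element without poles off the closed point is integral if the maximal ideals
of the integral closure have height at least two. -/
theorem isIntegral_of_domain (B K : Type u) [CommRing B] [IsDomain B] [IsNoetherianRing B] [IsLocalRing B]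
    [Field K] [Algebra B K] [IsFractionRing B K]
    (hdim : ∀ M : Ideal (integralClosure B K), M.IsMaximal → 2 ≤ M.height)
    (x : K) (hx : ∀ p : Ideal B, p.IsPrime → p ≠ maximalIdeal B → ∃ s ∉ p, IsIntegral B (algebraMap B K s * x)) :
    IsIntegral B x := by
  by_contra hni
  obtain ⟨C, hC, q, hq, hq1, hpole⟩ := GRingCpl.exists_pole_local B K x hni
  haveI := hC
  haveI := hq
  haveI : Algebra.IsIntegral B C := Algebra.IsIntegral.of_finite B C
  have hqm : q.comap (algebraMap B C) = maximalIdeal B := by
    by_contra hne
    obtain ⟨s, hs, hsx⟩ := hx _ (Ideal.IsPrime.comap _) hne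
    exact hpole (algebraMap B C s) hs hsx.tower_top
  haveI : q.IsMaximal := Ideal.IsIntegral.isMaximal_of_isMaximal_comap q (hqm ▸ maximalIdeal.isMaximal B)
  have hCle : C ≤ integralClosure B K := fun z hz =>
    (Algebra.IsIntegral.isIntegral (R := B) (⟨z, hz⟩ : C)).map C.val
  let inc : C →ₐ[B] integralClosure B K := Subalgebra.inclusion hCle
  letI : Algebra C (integralClosure B K) := inc.toRingHom.toAlgebra
  haveI : IsScalarTower B C (integralClosure B K) := IsScalarTower.of_algebraMap_eq' inc.comp_algebraMap.symm
  haveI : Algebra.IsIntegral C (integralClosure B K) :=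
    ⟨fun z => (Algebra.IsIntegral.isIntegral (R := B) z).tower_top⟩
  have hinj : Function.Injective (algebraMap C (integralClosure B K)) := Subalgebra.inclusion_injective hCle
  obtain ⟨M, -, hM, hMq⟩ := Ideal.exists_ideal_over_prime_of_isIntegral q (⊥ : Ideal (integralClosure B K))
    (by rw [← RingHom.ker_eq_comap_bot, (RingHom.injective_iff_ker_eq_bot _).1 hinj]; exact bot_le)
  haveI := hM
  haveI : M.IsMaximal := Ideal.IsIntegral.isMaximal_of_isMaximal_comap (R := C) M
    (by rw [hMq]; infer_instance)
  have h1 : M.height ≤ q.height := by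
    rw [show M.height = Order.height (⟨M, hM⟩ : PrimeSpectrum (integralClosure B K)) from
        PrimeSpectrum.height_eq_orderHeight ⟨M, hM⟩,
      show q.height = Order.height (⟨q, hq⟩ : PrimeSpectrum C) from PrimeSpectrum.height_eq_orderHeight ⟨q, hq⟩]
    refine le_of_le_of_eq (Order.height_le_height_apply_of_strictMono
      (fun p : PrimeSpectrum (integralClosure B K) =>
        (⟨p.asIdeal.comap (algebraMap C _), inferInstance⟩ : PrimeSpectrum C))
      (fun a b h => Ideal.IsIntegral.comap_lt_comap (R := C) (show a.asIdeal < b.asIdeal from h)) _) ?_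
    congr 1
    exact PrimeSpectrum.ext hMq
  have h2 := (hdim M ‹_›).trans (h1.trans_eq hq1)
  norm_num at h2

variable (A Q : Type u) [CommRing A] [IsNoetherianRing A] [IsReduced A]
  [CommRing Q] [Algebra A Q] [IsFractionRing A Q]

omit [IsNoetherianRing A] in
include A in
theorem isReduced_fraction : IsReduced Q :=
  isReduced_localizationPreserves (R := A) (nonZeroDivisors A) Q inferInstance

theorem finite_primes : (Set.univ : Set (PrimeSpectrum Q)).Finite ∧ ∀ P : PrimeSpectrum Q,
    P.asIdeal.IsMaximal ∧ P.asIdeal.comap (algebraMap A Q) ∈ minimalPrimes A := by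
  classical
  have hmin : ∀ P : PrimeSpectrum Q, P.asIdeal.comap (algebraMap A Q) ∈ minimalPrimes A := by
    intro P
    have h := (IsLocalization.isPrime_iff_isPrime_disjoint (nonZeroDivisors A) Q P.asIdeal).1 P.2
    by_contra hne
    have hfin : (minimalPrimes A).Finite := minimalPrimes.finite_of_isNoetherianRing A
    have hsub : ((P.asIdeal.comap (algebraMap A Q) : Ideal A) : Set A) ⊆ ⋃ r ∈ hfin.toFinset, (r : Set A) := by
      intro a ha
      have hnz : a ∉ nonZeroDivisors A := fun hna => Set.disjoint_left.1 h.2 hna ha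
      by_contra hno
      simp only [Set.mem_iUnion, Set.Finite.mem_toFinset, not_exists] at hno
      refine hnz (mem_nonZeroDivisors_iff_right.2 fun b hb => ?_)
      have hb0 : b ∈ sInf (minimalPrimes A) := by
        rw [Submodule.mem_sInf]
        intro r hr
        haveI := hr.1.1
        exact ((Ideal.IsPrime.mem_or_mem hr.1.1 (by rw [hb]; exact zero_mem r)).resolve_right
          fun har => hno r hr har)
      rw [show (minimalPrimes A) = (⊥ : Ideal A).minimalPrimes from rfl, Ideal.sInf_minimalPrimes,
        Ideal.radical_bot_of_isReduced] at hb0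
      exact hb0
    obtain ⟨r, hr, hle⟩ := (Ideal.subset_union_prime (s := hfin.toFinset) (f := id) ⊥ ⊥
      fun r hr _ _ => ((hfin.mem_toFinset.1 hr).1.1)).1 hsub
    have hr' := hfin.mem_toFinset.1 hr
    exact hne (le_antisymm hle (hr'.2 ⟨h.1, bot_le⟩ hle) ▸ hr')
  refine ⟨?_, fun P => ⟨?_, hmin P⟩⟩
  · refine Set.Finite.of_finite_image (f := fun P : PrimeSpectrum Q => P.asIdeal.comap (algebraMap A Q))
      ((minimalPrimes.finite_of_isNoetherianRing A).subset ?_) ?_
    · rintro _ ⟨P, -, rfl⟩
      exact hmin P
    · intro P _ P' _ hPP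
      exact PrimeSpectrum.ext (((IsLocalization.orderEmbedding (nonZeroDivisors A) Q).injective hPP))
  · obtain ⟨M, hM, hle⟩ := Ideal.exists_le_maximal P.asIdeal P.2.ne_top
    have h1 := hmin ⟨M, hM.isPrime⟩
    have h2 : P.asIdeal.comap (algebraMap A Q) = M.comap (algebraMap A Q) :=
      le_antisymm (Ideal.comap_mono hle) (h1.2 ⟨(hmin P).1.1, bot_le⟩ (Ideal.comap_mono hle))
    exact ((IsLocalization.orderEmbedding (nonZeroDivisors A) Q).injective h2) ▸ hM

include A in
/-- An idempotent concentrated at one point of the total ring of fractions. -/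
theorem exists_idem (P : PrimeSpectrum Q) : ∃ e : Q, 1 - e ∈ P.asIdeal ∧
    (∀ P' : PrimeSpectrum Q, P' ≠ P → e ∈ P'.asIdeal) ∧ e * e = e ∧ ∀ a ∈ P.asIdeal, e * a = 0 := by
  classical
  haveI := isReduced_fraction A Q
  obtain ⟨hfin, hmax⟩ := finite_primes A Q
  haveI : Finite (PrimeSpectrum Q) := Set.finite_univ_iff.1 hfin
  obtain ⟨e, he⟩ := Ideal.exists_forall_sub_mem_ideal (I := fun P' : PrimeSpectrum Q => P'.asIdeal)
    (fun a b hab => Ideal.isCoprime_iff_sup_eq.2 ((hmax a).1.coprime_of_ne (hmax b).1
      fun h => hab (PrimeSpectrum.ext h))) (fun P' => if P' = P then 1 else 0)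
  have h1 : 1 - e ∈ P.asIdeal := by
    have := he P; rw [if_pos rfl] at this; simpa using neg_mem this
  have h0 : ∀ P' : PrimeSpectrum Q, P' ≠ P → e ∈ P'.asIdeal := fun P' h => by
    have := he P'; rwa [if_neg h, sub_zero] at this
  have hzero : ∀ b : Q, (∀ P' : PrimeSpectrum Q, b ∈ P'.asIdeal) → b = 0 := fun b hb =>
    IsReduced.eq_zero b (nilpotent_iff_mem_prime.2 fun J hJ => hb ⟨J, hJ⟩)
  refine ⟨e, h1, h0, ?_, fun a ha => hzero _ fun P' => ?_⟩
  · rw [← sub_eq_zero, show e * e - e = -(e * (1 - e)) by ring, neg_eq_zero]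
    refine hzero _ fun P' => ?_
    rcases eq_or_ne P' P with rfl | h
    · exact Ideal.mul_mem_left _ _ h1
    · exact Ideal.mul_mem_right _ _ (h0 P' h)
  · rcases eq_or_ne P' P with rfl | h
    · exact Ideal.mul_mem_left _ _ ha
    · exact Ideal.mul_mem_right _ _ (h0 P' h)

variable [IsLocalRing A]

/-- An element without poles off the closed point is integral. -/
theorem isIntegral_of_noPoles
    (hdim : ∀ (m' : Ideal ↥(integralClosure A Q)) [m'.IsMaximal],
      m'.comap (algebraMap A ↥(integralClosure A Q)) = maximalIdeal A →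
        2 ≤ ringKrullDim (Localization.AtPrime m'))
    (x : Q) (hx : ∀ p : Ideal A, p.IsPrime → p ≠ maximalIdeal A →
      ∃ s ∉ p, IsIntegral A (algebraMap A Q s * x)) : IsIntegral A x := by
  classical
  haveI := isReduced_fraction A Q
  obtain ⟨hfin, hmax⟩ := finite_primes A Q
  haveI : Fintype (PrimeSpectrum Q) := hfin.fintype.ofEquiv _ (Equiv.Set.univ _)
  -- integrality at each generic point
  have hloc : ∀ P : PrimeSpectrum Q, ∃ f : Polynomial A, f.Monic ∧ Polynomial.aeval x f ∈ P.asIdeal := by
    intro P
    obtain ⟨e, he1, -, hee, he0⟩ := exists_idem A Q P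
    haveI : P.asIdeal.IsMaximal := (hmax P).1
    let p : Ideal A := P.asIdeal.comap (algebraMap A Q)
    let K := Q ⧸ P.asIdeal
    letI : Field K := Ideal.Quotient.field P.asIdeal
    let B := A ⧸ p
    letI : Algebra B K := (Ideal.quotientMap P.asIdeal (algebraMap A Q) le_rfl).toAlgebra
    haveI : IsScalarTower A B K := IsScalarTower.of_algebraMap_eq fun a => rfl
    haveI : FaithfulSMul B K :=
      (faithfulSMul_iff_algebraMap_injective _ _).2 Ideal.quotientMap_injective
    haveI : IsFractionRing B K := by
      refine IsFractionRing.of_field B K fun z => ?_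
      obtain ⟨z, rfl⟩ := Ideal.Quotient.mk_surjective z
      obtain ⟨a, s, rfl⟩ := IsLocalization.exists_mk'_eq (nonZeroDivisors A) z
      refine ⟨Ideal.Quotient.mk p a, Ideal.Quotient.mk p s, ?_⟩
      have hs : algebraMap B K (Ideal.Quotient.mk p (s : A)) ≠ 0 := fun h => by
        have : algebraMap A Q s ∈ P.asIdeal := Ideal.Quotient.eq_zero_iff_mem.1 h
        exact P.2.ne_top (Ideal.eq_top_of_isUnit_mem _ this (IsLocalization.map_units Q s))
      rw [eq_div_iff hs]
      show Ideal.Quotient.mk P.asIdeal _ * Ideal.Quotient.mk P.asIdeal (algebraMap A Q s) =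
        Ideal.Quotient.mk P.asIdeal (algebraMap A Q a)
      rw [← map_mul, IsLocalization.mk'_spec]
    haveI : IsLocalRing B := IsLocalRing.of_surjective' (Ideal.Quotient.mk p) Ideal.Quotient.mk_surjective
    have hmk : ∀ y : Q, IsIntegral A y → IsIntegral B (Ideal.Quotient.mk P.asIdeal y : K) := fun y hy =>
      (hy.map (Ideal.Quotient.mkₐ A P.asIdeal)).tower_top
    -- the projection of the integral closures
    let φ : integralClosure A Q →+* integralClosure B K :=
      ((Ideal.Quotient.mk P.asIdeal).comp (integralClosure A Q).val.toRingHom).codRestrict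
        (integralClosure B K).toSubring (fun y => hmk y.1 y.2)
    have heint : IsIntegral A e := by
      refine ⟨Polynomial.X ^ 2 - Polynomial.X, Polynomial.monic_X_pow_sub (by simp), ?_⟩
      simp [sq, hee]
    let ε : integralClosure A Q := ⟨e, heint⟩
    have hφsurj : Function.Surjective φ := by
      rintro ⟨z, hz⟩
      obtain ⟨y, rfl⟩ := Ideal.Quotient.mk_surjective z
      have hzA : IsIntegral A (Ideal.Quotient.mk P.asIdeal y : K) := isIntegral_trans _ hz
      obtain ⟨f, hf, hf0⟩ := hzA
      have hfy : Polynomial.aeval y f ∈ P.asIdeal := by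
        rw [← Ideal.Quotient.eq_zero_iff_mem, ← Ideal.Quotient.mkₐ_eq_mk A, ← Polynomial.aeval_algHom_apply]
        exact hf0
      refine ⟨⟨e * y, ?_⟩, Subtype.ext ?_⟩
      · refine ⟨Polynomial.X * f, Polynomial.monic_X.mul hf, ?_⟩
        rw [← Polynomial.aeval_def, map_mul, Polynomial.aeval_X]
        have key : ∀ g : Polynomial A, e * Polynomial.aeval (e * y) g = e * Polynomial.aeval y g := by
          intro g
          induction g using Polynomial.induction_on' with
          | add a b ha hb => rw [map_add, map_add, mul_add, mul_add, ha, hb]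
          | monomial n a =>
            rw [Polynomial.aeval_monomial, Polynomial.aeval_monomial, mul_pow]
            cases n with
            | zero => simp
            | succ n =>
              have : e ^ (n + 1) = e := IsIdempotentElem.pow_succ_eq n hee
              rw [this]
              linear_combination (algebraMap A Q a * y ^ (n + 1)) * hee
        rw [show e * y * Polynomial.aeval (e * y) f = y * (e * Polynomial.aeval (e * y) f) by ring, key,
          he0 _ hfy, mul_zero]
      · show Ideal.Quotient.mk P.asIdeal (e * y) = Ideal.Quotient.mk P.asIdeal y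
        rw [Ideal.Quotient.eq, show e * y - y = -((1 - e) * y) by ring]
        exact neg_mem (Ideal.mul_mem_right _ _ he1)
    have hεφ : φ ε = 1 := Subtype.ext ((Ideal.Quotient.eq.2
      (by simpa using he1 : (1 : Q) - e ∈ P.asIdeal)).symm.trans (map_one _))
    have hdimB : ∀ M : Ideal (integralClosure B K), M.IsMaximal → 2 ≤ M.height := by
      intro M hM
      haveI := hM
      haveI : (M.comap φ).IsMaximal := Ideal.comap_isMaximal_of_surjective φ hφsurj
      have hlie : (M.comap φ).comap (algebraMap A (integralClosure A Q)) = maximalIdeal A := by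
        haveI : ((M.comap φ).comap (algebraMap A (integralClosure A Q))).IsMaximal :=
          Ideal.isMaximal_comap_of_isIntegral_of_isMaximal (R := A) (M.comap φ)
        exact IsLocalRing.eq_maximalIdeal this
      have h2 := hdim (M.comap φ) hlie
      rw [IsLocalization.AtPrime.ringKrullDim_eq_height (M.comap φ)] at h2
      refine le_trans (show (2 : ℕ∞) ≤ (M.comap φ).height from WithBot.coe_le_coe.1 h2) ?_
      have hker : ∀ r : Ideal (integralClosure A Q), r.IsPrime → r ≤ M.comap φ → RingHom.ker φ ≤ r := by
        intro r hr hrle a ha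
        have h1 : (a : Q) ∈ P.asIdeal := Ideal.Quotient.eq_zero_iff_mem.1 (congrArg Subtype.val ha)
        have h3 : ε * a = 0 := Subtype.ext (he0 _ h1)
        have hε : ε ∉ r := fun hh => hM.ne_top ((Ideal.eq_top_iff_one _).2 (hεφ ▸ hrle hh))
        exact (hr.mem_or_mem (by rw [h3]; exact zero_mem r)).resolve_left hε
      rw [show M.height = Order.height (⟨M, hM.isPrime⟩ : PrimeSpectrum (integralClosure B K)) from
          PrimeSpectrum.height_eq_orderHeight ⟨M, hM.isPrime⟩,
        show (M.comap φ).height = Order.height (⟨M.comap φ, inferInstance⟩ : PrimeSpectrum (integralClosure A Q)) from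
          PrimeSpectrum.height_eq_orderHeight ⟨M.comap φ, inferInstance⟩]
      refine Order.height_le fun l hl => ?_
      have hle : ∀ i, (l i).asIdeal ≤ M.comap φ := fun i => by
        have := (l.strictMono.monotone (Fin.le_last i)).trans_eq hl
        exact this
      let l' : LTSeries (PrimeSpectrum (integralClosure B K)) :=
        { length := l.length
          toFun := fun i => ⟨(l i).asIdeal.map φ,
            Ideal.map_isPrime_of_surjective hφsurj (hker _ (l i).2 (hle i))⟩
          step := fun i => by
            show (l i.castSucc).asIdeal.map φ < (l i.succ).asIdeal.map φ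
            refine lt_of_le_of_ne (Ideal.map_mono (le_of_lt (l.step i))) fun he => ?_
            refine (l.step i).ne (PrimeSpectrum.ext ?_)
            have h := congrArg (Ideal.comap φ) he
            rwa [Ideal.comap_map_of_surjective φ hφsurj, Ideal.comap_map_of_surjective φ hφsurj,
              ← RingHom.ker_eq_comap_bot, sup_eq_left.2 (hker _ (l _).2 (hle _)),
              sup_eq_left.2 (hker _ (l _).2 (hle _))] at h }
      refine Order.length_le_height (p := l') ?_
      show (l (Fin.last _)).asIdeal.map φ ≤ M
      exact Ideal.map_le_iff_le_comap.2 (hle _)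
    have hxB : IsIntegral B (Ideal.Quotient.mk P.asIdeal x : K) := by
      refine isIntegral_of_domain B K hdimB _ fun r hr hne => ?_
      obtain ⟨s, hs, hsx⟩ := hx (r.comap (Ideal.Quotient.mk p)) (Ideal.IsPrime.comap _) (fun h => hne (by
        have h' := congrArg (Ideal.map (Ideal.Quotient.mk p)) h
        rw [Ideal.map_comap_of_surjective _ Ideal.Quotient.mk_surjective] at h'
        rw [h']
        exact IsLocalRing.eq_maximalIdeal
          ((Ideal.map_eq_top_or_isMaximal_of_surjective _ Ideal.Quotient.mk_surjective
            (maximalIdeal.isMaximal A)).resolve_left (fun ht => hr.ne_top (h'.trans ht)))))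
      exact ⟨Ideal.Quotient.mk p s, hs, by
        have := hmk _ hsx
        rwa [map_mul] at this⟩
    obtain ⟨f, hf, hf0⟩ := (isIntegral_trans _ hxB : IsIntegral A (Ideal.Quotient.mk P.asIdeal x : K))
    refine ⟨f, hf, ?_⟩
    rw [← Ideal.Quotient.eq_zero_iff_mem, ← Ideal.Quotient.mkₐ_eq_mk A, ← Polynomial.aeval_algHom_apply]
    exact hf0
  choose f hf hf0 using hloc
  refine ⟨∏ P, f P, Polynomial.monic_prod_of_monic _ _ fun P _ => hf P, ?_⟩
  rw [← Polynomial.aeval_def, map_prod]
  refine IsReduced.eq_zero _ (nilpotent_iff_mem_prime.2 fun J hJ => ?_)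
  exact J.mem_of_dvd (Finset.dvd_prod_of_mem _ (Finset.mem_univ (⟨J, hJ⟩ : PrimeSpectrum Q))) (hf0 ⟨J, hJ⟩)

end Groth.Agent.PunctInt
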