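import Groth.Agent.PunctInt.Basic
import Groth.Prelude.Def_FEt
import Mathlib

/-!
# Sections on the punctured spectrum of a reduced Noetherian local ring
-/

set_option autoImplicit false
set_option linter.style.haveILetI false

universe u

open CategoryTheory AlgebraicGeometry Opposite IsLocalRing

namespace Groth.Agent.PunctInt

variable (A : Type u) [CommRing A]

/-- The restriction of global functions. -/
noncomputable abbrev rho (V : (Spec (CommRingCat.of A)).Opens) :
    A →+* (Spec (CommRingCat.of A)).presheaf.obj (op V) :=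
  ((Spec (CommRingCat.of A)).presheaf.map (homOfLE (le_top : V ≤ ⊤)).op).hom.comp
    (Scheme.ΓSpecIso (CommRingCat.of A)).inv.hom

/-- The open where a function is invertible. -/
noncomputable abbrev D (t : A) : (Spec (CommRingCat.of A)).Opens :=
  (Spec (CommRingCat.of A)).basicOpen ((Scheme.ΓSpecIso (CommRingCat.of A)).inv t)

theorem mem_D {t : A} (x : Spec (CommRingCat.of A)) : x ∈ D A t ↔ t ∉ x.asIdeal := by
  rw [D, basicOpen_eq_of_affine]
  rfl

theorem exists_frac (t : A) (y : (Spec (CommRingCat.of A)).presheaf.obj (op (D A t))) :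
    ∃ (n : ℕ) (a : A), rho A (D A t) (t ^ n) * y = rho A (D A t) a := by
  haveI := (isAffineOpen_top (Spec (CommRingCat.of A))).isLocalization_basicOpen
    ((Scheme.ΓSpecIso (CommRingCat.of A)).inv t)
  obtain ⟨n, a, h⟩ := IsLocalization.Away.surj ((Scheme.ΓSpecIso (CommRingCat.of A)).inv t) y
  refine ⟨n, (Scheme.ΓSpecIso (CommRingCat.of A)).hom a, ?_⟩
  rw [mul_comm] at h
  simp only [RingHom.coe_comp, Function.comp_apply, map_pow, Iso.hom_inv_id_apply]
  exact h

theorem exists_pow_mul_eq_zero (t : A) {a : A} (h : rho A (D A t) a = 0) : ∃ k : ℕ, t ^ k * a = 0 := by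
  haveI := (isAffineOpen_top (Spec (CommRingCat.of A))).isLocalization_basicOpen
    ((Scheme.ΓSpecIso (CommRingCat.of A)).inv t)
  obtain ⟨⟨_, k, rfl⟩, hk⟩ := (IsLocalization.map_eq_zero_iff
    (Submonoid.powers ((Scheme.ΓSpecIso (CommRingCat.of A)).inv t))
    ((Spec (CommRingCat.of A)).presheaf.obj (op (D A t))) ((Scheme.ΓSpecIso (CommRingCat.of A)).inv a)).1 h
  refine ⟨k, (ConcreteCategory.bijective_of_isIso (Scheme.ΓSpecIso (CommRingCat.of A)).inv).1 ?_⟩
  rw [map_mul, map_pow, map_zero]
  exact hk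

theorem rho_res {V W : (Spec (CommRingCat.of A)).Opens} (h : W ≤ V) (a : A) :
    (Spec (CommRingCat.of A)).presheaf.map (homOfLE h).op (rho A V a) = rho A W a := by
  simp only [RingHom.coe_comp, Function.comp_apply]
  rw [← CommRingCat.comp_apply, ← Functor.map_comp]
  rfl

variable [IsNoetherianRing A] [IsReduced A] [IsLocalRing A]

/-- Sections on the punctured spectrum are integral fractions. -/
theorem punctured_sections (Q : Type u) [CommRing Q] [Algebra A Q] [IsFractionRing A Q]
    (hdim : ∀ (m' : Ideal ↥(integralClosure A Q)) [m'.IsMaximal],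
      m'.comap (algebraMap A ↥(integralClosure A Q)) = maximalIdeal A →
        2 ≤ ringKrullDim (Localization.AtPrime m')) :
    (rho A (FEt.puncturedSpec A)).IsIntegral ∧
      ∃ φ : ↑((Spec (CommRingCat.of A)).presheaf.obj (op (FEt.puncturedSpec A))) →+* ↥(integralClosure A Q),
        Function.Injective φ ∧
          φ.comp (rho A (FEt.puncturedSpec A)) = algebraMap A ↥(integralClosure A Q) := by
  classical
  haveI := isReduced_fraction A Q
  haveI : Nontrivial A := inferInstance
  -- a nonzerodivisor in the maximal ideal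
  obtain ⟨t₀, ht₀m, ht₀⟩ : ∃ t ∈ maximalIdeal A, t ∈ nonZeroDivisors A := by
    by_contra hno
    push Not at hno
    haveI : IsLocalization (nonZeroDivisors A) A :=
      IsLocalization.self fun t ht => not_not.1 fun hu => hno t hu ht
    have hmin : maximalIdeal A ∈ minimalPrimes A := by
      have h := ((finite_primes A A).2 ⟨maximalIdeal A, inferInstance⟩).2
      simpa [Algebra.algebraMap_self] using h
    have hsurj : Function.Surjective (algebraMap A Q) := fun q => by
      obtain ⟨a, rfl⟩ := (IsLocalization.algEquiv (nonZeroDivisors A) A Q).surjective q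
      exact ⟨a, ((IsLocalization.algEquiv (nonZeroDivisors A) A Q).commutes a).symm⟩
    haveI : Nontrivial Q := (IsFractionRing.injective A Q).nontrivial
    obtain ⟨m', hm'⟩ := Ideal.exists_maximal (integralClosure A Q)
    haveI := hm'
    haveI : (m'.comap (algebraMap A (integralClosure A Q))).IsMaximal :=
      Ideal.isMaximal_comap_of_isIntegral_of_isMaximal (R := A) m'
    have h2 := hdim m' (IsLocalRing.eq_maximalIdeal this)
    rw [IsLocalization.AtPrime.ringKrullDim_eq_height m'] at h2
    have h3 : (m'.height : WithBot ℕ∞) ≤ ringKrullDim (integralClosure A Q) :=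
      Ideal.height_le_ringKrullDim_of_isPrime
    have hbij : Function.Surjective (algebraMap A (integralClosure A Q)) := fun z => by
      obtain ⟨a, ha⟩ := hsurj z.1
      exact ⟨a, Subtype.ext ha⟩
    have h4 := ringKrullDim_le_of_surjective _ hbij
    have h5 : ringKrullDim A = 0 := by
      rw [← IsLocalRing.maximalIdeal_height_eq_ringKrullDim, Ideal.height_eq_zero_iff.2 hmin]
      rfl
    exact absurd (h2.trans (h3.trans (h4.trans h5.le))) (by norm_num)
  let X := Spec (CommRingCat.of A)
  let U : X.Opens := FEt.puncturedSpec A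
  have hDU : ∀ t ∈ maximalIdeal A, D A t ≤ U := fun t ht x hx hx' =>
    (mem_D A x).1 hx (by rw [show x = IsLocalRing.closedPoint A from hx']; exact ht)
  -- the fraction of a section
  haveI := (isAffineOpen_top X).isLocalization_basicOpen ((Scheme.ΓSpecIso (CommRingCat.of A)).inv t₀)
  let g : X.presheaf.obj (op ⊤) →+* Q :=
    (algebraMap A Q).comp (Scheme.ΓSpecIso (CommRingCat.of A)).hom.hom
  have hg : IsUnit (g ((Scheme.ΓSpecIso (CommRingCat.of A)).inv t₀)) := by
    simp only [g, RingHom.coe_comp, Function.comp_apply, Iso.inv_hom_id_apply]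
    exact IsLocalization.map_units Q (⟨t₀, ht₀⟩ : nonZeroDivisors A)
  let ψ₀ : X.presheaf.obj (op (D A t₀)) →+* Q :=
    IsLocalization.Away.lift ((Scheme.ΓSpecIso (CommRingCat.of A)).inv t₀) hg
  let ψ : X.presheaf.obj (op U) →+* Q := ψ₀.comp (X.presheaf.map (homOfLE (hDU t₀ ht₀m)).op).hom
  have hψρ : ∀ a, ψ (rho A U a) = algebraMap A Q a := fun a => by
    show ψ₀ (X.presheaf.map (homOfLE (hDU t₀ ht₀m)).op (rho A U a)) = _
    rw [rho_res]
    show ψ₀ (algebraMap (X.presheaf.obj (op ⊤)) _ ((Scheme.ΓSpecIso (CommRingCat.of A)).inv a)) = _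
    rw [IsLocalization.Away.lift_eq]
    simp only [g, RingHom.coe_comp, Function.comp_apply, Iso.inv_hom_id_apply]
  -- the fraction has no poles away from the closed point
  have key : ∀ (t : A) (ht : t ∈ maximalIdeal A), ∀ x : X.presheaf.obj (op U), ∃ (n : ℕ) (a : A),
      algebraMap A Q (t ^ n) * ψ x = algebraMap A Q a ∧
        rho A (D A t) (t ^ n) * X.presheaf.map (homOfLE (hDU t ht)).op x = rho A (D A t) a := by
    intro t ht x
    obtain ⟨n, a, hna⟩ := exists_frac A t (X.presheaf.map (homOfLE (hDU t ht)).op x)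
    obtain ⟨j, b, hjb⟩ := exists_frac A t₀
      (X.presheaf.map (homOfLE (hDU t₀ ht₀m)).op (rho A U (t ^ n) * x - rho A U a))
    have hle : D A (t₀ * t) ≤ D A t₀ := fun z hz => (mem_D A z).2 fun h =>
      (mem_D A z).1 hz (Ideal.mul_mem_right _ _ h)
    have hle' : D A (t₀ * t) ≤ D A t := fun z hz => (mem_D A z).2 fun h =>
      (mem_D A z).1 hz (Ideal.mul_mem_left _ _ h)
    have hb0 : rho A (D A (t₀ * t)) b = 0 := by
      have h1 := congrArg (X.presheaf.map (homOfLE hle).op) hjb
      rw [rho_res, map_mul, rho_res, ← CommRingCat.comp_apply, ← Functor.map_comp] at h1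
      rw [← h1]
      have h2 : X.presheaf.map ((homOfLE (hDU t₀ ht₀m)).op ≫ (homOfLE hle).op) (rho A U (t ^ n) * x - rho A U a) =
          X.presheaf.map (homOfLE hle').op
            (X.presheaf.map (homOfLE (hDU t ht)).op (rho A U (t ^ n) * x - rho A U a)) := by
        rw [← CommRingCat.comp_apply, ← Functor.map_comp]
        rfl
      rw [h2, map_sub (X.presheaf.map (homOfLE (hDU t ht)).op).hom, map_mul, rho_res, rho_res, hna,
        sub_self, map_zero, mul_zero]
    obtain ⟨k, hk⟩ := exists_pow_mul_eq_zero A (t₀ * t) hb0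
    refine ⟨k + n, t ^ k * a, ?_, ?_⟩
    · have h3 : algebraMap A Q b = algebraMap A Q (t₀ ^ j) * (algebraMap A Q (t ^ n) * ψ x - algebraMap A Q a) := by
        have h4 := congrArg ψ₀ hjb
        rw [map_mul, ← rho_res A (hDU t₀ ht₀m) b, ← rho_res A (hDU t₀ ht₀m) (t₀ ^ j)] at h4
        change ψ (rho A U (t₀ ^ j)) * ψ (rho A U (t ^ n) * x - rho A U a) = ψ (rho A U b) at h4
        rw [map_sub, map_mul, hψρ, hψρ, hψρ, hψρ] at h4
        exact h4.symm
      have h5 : algebraMap A Q ((t₀ * t) ^ k * b) = 0 := by rw [hk, map_zero]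
      rw [map_mul, h3] at h5
      have hu : IsUnit (algebraMap A Q t₀) := IsLocalization.map_units Q (⟨t₀, ht₀⟩ : nonZeroDivisors A)
      rw [← sub_eq_zero]
      refine ((hu.pow (k + j)).mul_right_eq_zero).1 ?_
      rw [← h5]
      simp only [map_pow, map_mul]
      ring
    · rw [pow_add, map_mul, mul_assoc, hna, ← map_mul]
  have hnopole : ∀ x : X.presheaf.obj (op U), IsIntegral A (ψ x) := fun x =>
    isIntegral_of_noPoles A Q hdim (ψ x) fun p hp hne => by
      obtain ⟨t, htm, htp⟩ := SetLike.not_le_iff_exists.1 fun hle : maximalIdeal A ≤ p =>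
        hne ((maximalIdeal.isMaximal A).eq_of_le hp.ne_top hle).symm
      obtain ⟨n, a, hna, -⟩ := key t htm x
      exact ⟨t ^ n, fun h => htp (hp.mem_of_pow_mem n h), hna ▸ isIntegral_algebraMap⟩
  have hψinj : Function.Injective ψ := by
    rw [injective_iff_map_eq_zero]
    intro x hx
    refine TopCat.Sheaf.eq_of_locally_eq' X.sheaf (fun t : maximalIdeal A => D A t.1) U
      (fun t => homOfLE (hDU t.1 t.2)) (fun z hz => ?_) x 0 fun t => ?_
    · obtain ⟨t, htm, htz⟩ := SetLike.not_le_iff_exists.1 fun hle : maximalIdeal A ≤ z.asIdeal =>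
        hz (PrimeSpectrum.ext ((maximalIdeal.isMaximal A).eq_of_le z.2.ne_top hle).symm)
      exact TopologicalSpace.Opens.mem_iSup.2 ⟨⟨t, htm⟩, (mem_D A z).2 htz⟩
    · obtain ⟨n, a, hna, hres⟩ := key t.1 t.2 x
      rw [hx, mul_zero] at hna
      have ha : a = 0 := IsFractionRing.injective A Q (hna.symm.trans (map_zero _).symm)
      rw [ha, map_zero] at hres
      have hu : IsUnit (rho A (D A t.1) (t.1 ^ n)) := by
        rw [map_pow]
        exact (RingedSpace.isUnit_res_basicOpen X.toLocallyRingedSpace.toRingedSpace _).pow n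
      exact (hu.mul_right_eq_zero.1 hres).trans (map_zero _).symm
  refine ⟨fun x => ?_, ψ.codRestrict (integralClosure A Q).toSubring hnopole, fun a b h => hψinj (congrArg Subtype.val h),
    RingHom.ext fun a => Subtype.ext (hψρ a)⟩
  obtain ⟨f, hf, hf0⟩ := hnopole x
  refine ⟨f, hf, hψinj ?_⟩
  rw [map_zero, Polynomial.hom_eval₂, show ψ.comp (rho A U) = algebraMap A Q from RingHom.ext hψρ]
  exact hf0

end Groth.Agent.PunctInt
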